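import Cfsg.Agent.H16.Cen
import Cfsg.Agent.H15.M.Tits

/-! Generated by tools/h16 (computation kit). -/

set_option maxRecDepth 100000
set_option maxHeartbeats 0

namespace H20.TF

open H16

noncomputable def We : List ℕ := [nat_lit 4, nat_lit 5]
noncomputable def Fe0d : BT := (.node (.node 
 (.leaf (nat_lit 0x5cc999e42896b232b8d344cb9a2d54c96b374d970c4ecda2640bd5275889cac708142c66b97b44cb16275ec1a2f66993226ab942634614ad5ccdc1352d13335ac1a1958d581a5c9d2ad5cc9d2d488d7303ad5635429d3275abc3ad5ab972252b572a60e56ac6aa963b3ce593456e13205ac99274ec993144a192560d12a14eb56ab5ab960618b572444c12a452a183932e92ab50c973a5c80b2e68dd7221ae5332726561b42c5a915ce972e649d3a644d1b2e5cd15ae509d92d72b912d5aaca3066cd9266a919a842cd12656b1635508173520d19a456b56ad684962d52b9ab35e9d4a836d13b542e56ad50b52ab4eb53b252e582d58bcb275ea1634108512f68d17a866719a65a8952d627d3ae68a1da03a7542e64b97285cc1a2b567591d6ac9a2d5c7923362cd7ae48959ae5ca8d9054b54ad2e817286854b2f685193a64b10b250bd6b24e8132158b91b42c51a324cadaad529112454d173468c8c2d68a1a2e64b1c2f4a81a3568a1d2c60cdd2e64cdc2648b999b44bd72560817275cb4b9d52b59a456815b5529522e42957a852a8f2d5eb572c62b97af5aa5ab076d082e5ca13344c9d6a72ea16a3409d6ad5275a2f528dda16ad573b40d1a2050e8e2f))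 
 (.leaf (nat_lit 0x74b92b868b89a85c717ac6ca51335aad7b54a813b360d57b956997a75ad182550e9733666573374cdcaf5cadaa354d132c5cbd3b354b989c5ed519538d4d34567912840d163552b9317467511d5ccd5bb665883944a9ca662b5a285c7d6954cb16324e890262ab8f2f3acd7a95cedd2f669dc2b72297365a91aaf38b5ab340c9aa754a4bb53cb8b2f5a858a84eb97aa68bd6a250bd3b364ec7b930a13b450b8e2648cce34508d4b056593b340b573124ba0245cd16265e848b054957a752b97b15ea0a2d669d5282cdd5ac449d51e5299ca94ed14384cd183168999ba4ed1a324ec97b34ac95295acd7ad5ccd1ab60c542860a16a6686972a30a1a354ccd9b34ccd5b360b9a244ecd73a346d72558c13ac58d17b1644943746b9aaa6aad6a958bd4235ec17a16ab97b952bd1b254cda306c6169e5acd7292abd0b340c55a574c162c447973474b911648d5c2954a143450956281c9932b64bd02c5eb4fac4cb593562b161f58a9ab1586d1b352c57275ec16265eb5a2c56797b042b89ae5e694205c9d9a936bcbab4e911234eb50b464cd3b55c3dda65ee5aac4ea122656d9a2e32cd6325ed58b54a5d6115461d286289ba466995aa689d832509d23558b1333))) (.node 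
 (.leaf (nat_lit 0x58bd22242bceae68b0c2672c97ba50895b050b5a3258b99b25ecdda842cd09d5ec4bb568e5d22387da2752c572934797b24cb16a770b5aad34dda344489a28588da8f64a992c4cc0d3468b122166d13b372d53315ca93b462b94b566a9a34509132d4ec599c52d59ba5cb58a75ce553150b4faa6ea542858d1d30489daad6aa97b450b19262ab952c5ee94b15ad1a235aa8fb12485a34428183234d59265c89d226ac193534d162a5acd92e729cfae5ed4898429dab338bd6344ec54b55ac971c5eb13ae5ab14af66c572c38c95244e0549c46b94215ec1d2a569d9344488e284cb912254807245d018a868a13355acddac6a956b16669934607962c60cda32408593452c97ad567d4ac58b142e5ec8fad3aa94a3645d1a96a6da2858c91a834e983454e572c586d93358b5a2840a952e58d18244cc9840669c9b44ca45b56ac51a85eb8bb55ad51ac2cc97ac66d113440a1c3064d941e589d69e68b902c12a95a068a573566d0e2d74a57245c858b54cb553d448543b58b4e2d5a95da35e995354ee163670ad73756a10b45ac91ab589dcab72c5a324ea183a50e8eb366e9ca368d5723468d4355eb9a3552e94a854c95b55ca14af5c9952f6a8553266b592d)) 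
 (.leaf (nat_lit 0xcd52730b96a738ad39966b1aae6acd6b244a5aba38bd4a85ecd696689d92f5c8982d62c902268d54215cd142e74e90325ad57384ccd5335ccd033668d7ac46a9a3470d1a2c3ed16a85cd0f3962b9b345a45cb350a5c1d4ea5c1d447d0a654c9d9b764973976adc2e5ab933b369d6a6347139e5ac9a3b3a9d92b42ad6274c74e1e4cb93b844d552650e959a76857aa5c71a275cb9d2e509d22e4ec942458b99a71e994a730a18ba32be03542810305e857b142813275ca15354ed52a454bda35))))
noncomputable def Fe0 (u : ℕ) : ℕ := force (Nat.shiftRight u (nat_lit 9)) fun j => Nat.land (Nat.shiftRight (Fe0d.get j) (Nat.mul (Nat.land u (nat_lit 511)) (nat_lit 7))) (nat_lit 127)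
noncomputable def le0 : Lv := ⟨(nat_lit 0), (nat_lit 786), (nat_lit 1755), (nat_lit 6), [[nat_lit 0],
  [nat_lit 1],
  [nat_lit 2],
  [nat_lit 3],
  [nat_lit 4],
  [nat_lit 5]], Fe0, (nat_lit 11)⟩
noncomputable def Fe1d : ℕ := nat_lit 0xbd8e000018902da000000601006c008bc000001ac4a6005800702d2ddee000016adc1404c0eb400000000cd40000000c60000000006f1406c0006c000024005b7bcd41800000001fb05800c5d6080000c640090140b800006c14a4800060188bc12041d284c16b8000000000000000300060000000c002e00036004c0004418b8000ac400dc800a02a006c0005400044000000000000067160000f902e000352a8015b801300000a01f20000906c00b441a0000058017002a005c00058190036000294016e000000003407400006615000170000000015a67e0a800004eb700320b820000360d027600000c80130033d983400481704c0040015002a00000048000a801b04ec0982a000000c5e3905c0006aa00019a00256d8011a03000000005019064007001e000000000006760c000006e800336006e600000005c139026005a8000200bc417b8000c0000002e0bd9c00001f04f00002e06dc00bcc00d8000adc1798000000090000005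68000000000130001ac0371bd0000029a0001606b680000006d38044006af40802e004d40bdc1304c008ec0000000bcc18a02f500000b000005015b001400000003340001b06800002fb010010000000000d5400002c09836003017be400002400000000000b82a00000096760d000000280dd40003c15a800004c1406c009c000d5000dd00000000c0000dc8000000000377002e0680007800070000d000c04a000000004c0000012b822006c19000120000000000001c0b03370440000013c4b000000006f0000000981c0b830050000a6e00b82e004c1504c00000160001805c00b81a0002fa0480007eed0001800010bd651b62fabec0000000d801500011ad6f000000000110000000000a0000dd7349801300000000148e67505013b00007000006800062b2d0360054000540006817ab680001c0000000000000000d75d700011003600000d002e0a02e003800000160000d0010f04c000000003c00d82a000260002c0002a0002c0002c0a01e0a830000000a801b0000005ae00000000000cb1d7000009800004c00002fd050000580005afb000000000f902d100019a00006d7407baf6b02a0002e000000b0280002c0c5634f026000015c80160630d000008000000220982c00000fa826000000000000580000000000130028006b17b8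0000000000011d836000000002130000005800d0320002a000100ad4007d260b80000030000336b801406e4000018800160022000014a8018002beb02fb0000d0001500011000000000050000d837500017000000000006c000001605714b5400c00000001a05400b00000024005400068000032000340ddb00b0250d83340400005c00a80000022088376054130021103720b82c00000035c0000000a02e0002afb800088000c50000036004800d8000c0000001b106980d001b5b000000166837b00000a0180002400030005c00002e005800b00000001a048168822000255d581a0001a0033600017802f7b80000640000000a0017a0000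
noncomputable def Fe1 (u : ℕ) : ℕ := Nat.land (Nat.shiftRight Fe1d (Nat.mul u (nat_lit 5))) (nat_lit 31)
noncomputable def le1 : Lv := ⟨(nat_lit 1), (nat_lit 1048), (nat_lit 640), (nat_lit 4), [[nat_lit 3, nat_lit 4, nat_lit 2, nat_lit 3, nat_lit 4],
  [nat_lit 2, nat_lit 4, nat_lit 0, nat_lit 4, nat_lit 3, nat_lit 4, nat_lit 2, nat_lit 0, nat_lit 0],
  [nat_lit 0, nat_lit 3, nat_lit 4, nat_lit 1, nat_lit 2, nat_lit 3, nat_lit 4, nat_lit 1, nat_lit 2, nat_lit 3],
  [nat_lit 0, nat_lit 2, nat_lit 4, nat_lit 1, nat_lit 3, nat_lit 4, nat_lit 0, nat_lit 5, nat_lit 4, nat_lit 3, nat_lit 4, nat_lit 3, nat_lit 5]], Fe1, (nat_lit 8)⟩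
noncomputable def Fe2d : ℕ := nat_lit 0x2000000000000000000000000000000000000000000000000000000000000000000000000000000000000000000000000000000000000000000000000000000000000000000000000000000000000000000000000000000000000000000000000000000001e00000000000000000000000000000000000000000000000000000000000000000000000000000000000000000000000000000000000000000000000000000000000000000000000000000000000000000000200000000000000000000000160000000000000000000000000000000000000000000000000000000000000000000000000000000000000000000000000000000000000000000000000000000000000000000000000000000000000000000000000000000000000000000000000000000000000000000000000000000000000000000000000000000000000000000000000000000000000000000000000005800000000000000000003800000000000000000000000000000000000000000000000000000000000000000000000000000000000000000000000000000000000000000000000000000000000000004000000000000000000000000000000000c0000000000098000000000000000000000000000000000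00000000000000000000000000000000000000000000000000000000000000000000000000000000000000000000000000000000000000000000000000000000000000000000000000000000000000000000000000000000000000000000000000000000000000000000000000000000000000000000000000000028000000000000000000000000000000000000000000000000000000000000000000000000000000000000000000000000000000000000000000000000000000000000000000000000007000000000000000000000000000000000000000000000001e000000000000000000000000000000000000000000000000000000000000000000000000000000000000000000f00000000000000000000000000000000000000000000000000000000000000000000000000000000000000000000000000000000000000000000000000000000000000000000000000000000000000000000000000000000000000000000000000000000000000000000000000000000000000000000000000000000000000000000000000000000160000000000000000000000000000000000000000000000000000000050000000000000000000000000000000000000000000000000000000000000000000000000000000000000000000000000000000000000000000000000000000000000000000000000000000000000000000000000000000000000000000000000028000000000000000000000000000000000000000000000000000000000000000000000000000000000000000000000000000000000000000000000000000000000000000000000000000000000000000000000000000000000000000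
noncomputable def Fe2 (u : ℕ) : ℕ := Nat.land (Nat.shiftRight Fe2d (Nat.mul u (nat_lit 5))) (nat_lit 31)
noncomputable def le2 : Lv := ⟨(nat_lit 2), (nat_lit 1441), (nat_lit 16), (nat_lit 4), [[nat_lit 4, nat_lit 2, nat_lit 3, nat_lit 4, nat_lit 3, nat_lit 5, nat_lit 4, nat_lit 3, nat_lit 4, nat_lit 5],
  [nat_lit 5, nat_lit 4, nat_lit 3, nat_lit 4, nat_lit 2, nat_lit 3, nat_lit 5, nat_lit 4, nat_lit 2, nat_lit 3, nat_lit 4],
  [nat_lit 4, nat_lit 1, nat_lit 2, nat_lit 3, nat_lit 4, nat_lit 3, nat_lit 1, nat_lit 4, nat_lit 5, nat_lit 4, nat_lit 2, nat_lit 4, nat_lit 2, nat_lit 4, nat_lit 0, nat_lit 5],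
  [nat_lit 0, nat_lit 2, nat_lit 4, nat_lit 2, nat_lit 4, nat_lit 0, nat_lit 4, nat_lit 0, nat_lit 5, nat_lit 4, nat_lit 1, nat_lit 3, nat_lit 4, nat_lit 0, nat_lit 5, nat_lit 4]], Fe2, (nat_lit 5)⟩
noncomputable def LLe : List Lv := [le0, le1, le2]
noncomputable def Acce : List (List ℕ) := [[],
  [nat_lit 1, nat_lit 4, nat_lit 0, nat_lit 5, nat_lit 4, nat_lit 0],
  [nat_lit 0, nat_lit 0, nat_lit 4, nat_lit 2, nat_lit 3, nat_lit 4, nat_lit 0, nat_lit 4, nat_lit 5, nat_lit 4, nat_lit 3, nat_lit 5, nat_lit 4, nat_lit 3, nat_lit 4, nat_lit 5, nat_lit 4, nat_lit 3, nat_lit 4, nat_lit 5, nat_lit 3],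
  [nat_lit 3, nat_lit 4, nat_lit 1, nat_lit 3, nat_lit 4, nat_lit 0, nat_lit 3, nat_lit 5, nat_lit 4, nat_lit 1, nat_lit 2, nat_lit 4, nat_lit 2, nat_lit 4, nat_lit 3, nat_lit 5, nat_lit 0, nat_lit 4],
  [nat_lit 5, nat_lit 1, nat_lit 3, nat_lit 4, nat_lit 1, nat_lit 2, nat_lit 5, nat_lit 4, nat_lit 1, nat_lit 2, nat_lit 5, nat_lit 4, nat_lit 0, nat_lit 3],
  [nat_lit 3, nat_lit 1, nat_lit 4, nat_lit 1, nat_lit 2, nat_lit 5, nat_lit 4, nat_lit 1, nat_lit 2, nat_lit 5, nat_lit 4, nat_lit 0, nat_lit 3, nat_lit 5],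
  [nat_lit 0, nat_lit 0, nat_lit 3, nat_lit 4, nat_lit 0, nat_lit 0, nat_lit 2, nat_lit 5, nat_lit 4, nat_lit 1, nat_lit 2, nat_lit 5, nat_lit 4, nat_lit 0, nat_lit 2, nat_lit 5, nat_lit 4, nat_lit 1, nat_lit 4, nat_lit 3],
  [nat_lit 0, nat_lit 2, nat_lit 4, nat_lit 2, nat_lit 4, nat_lit 2, nat_lit 4, nat_lit 2, nat_lit 4, nat_lit 0, nat_lit 5, nat_lit 4, nat_lit 1, nat_lit 3, nat_lit 5, nat_lit 4, nat_lit 3, nat_lit 5, nat_lit 4, nat_lit 2, nat_lit 4, nat_lit 2],
  [nat_lit 5, nat_lit 0, nat_lit 0, nat_lit 4, nat_lit 3, nat_lit 4, nat_lit 1, nat_lit 2, nat_lit 4, nat_lit 2, nat_lit 5, nat_lit 4, nat_lit 2, nat_lit 4, nat_lit 0, nat_lit 0, nat_lit 2, nat_lit 3],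
  [nat_lit 0, nat_lit 4, nat_lit 2, nat_lit 4, nat_lit 2, nat_lit 3, nat_lit 4, nat_lit 2, nat_lit 5, nat_lit 4, nat_lit 2, nat_lit 4, nat_lit 5, nat_lit 4, nat_lit 0, nat_lit 3, nat_lit 0],
  [nat_lit 2, nat_lit 1, nat_lit 4, nat_lit 0, nat_lit 2, nat_lit 4, nat_lit 0, nat_lit 5, nat_lit 4, nat_lit 3, nat_lit 5, nat_lit 4, nat_lit 5, nat_lit 4, nat_lit 1, nat_lit 3, nat_lit 4, nat_lit 3],
  [nat_lit 2, nat_lit 3, nat_lit 4, nat_lit 2, nat_lit 4, nat_lit 5, nat_lit 4, nat_lit 0, nat_lit 3, nat_lit 5, nat_lit 4, nat_lit 0, nat_lit 5, nat_lit 4, nat_lit 3, nat_lit 4, nat_lit 2],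
  [nat_lit 0, nat_lit 4, nat_lit 2, nat_lit 4, nat_lit 0, nat_lit 3, nat_lit 5, nat_lit 4, nat_lit 2, nat_lit 5, nat_lit 4, nat_lit 2, nat_lit 5, nat_lit 4, nat_lit 2, nat_lit 3, nat_lit 1],
  [nat_lit 3, nat_lit 4, nat_lit 2, nat_lit 3, nat_lit 4, nat_lit 0, nat_lit 5, nat_lit 4, nat_lit 3, nat_lit 4, nat_lit 5, nat_lit 1, nat_lit 1, nat_lit 4, nat_lit 5, nat_lit 2, nat_lit 0],
  [nat_lit 0, nat_lit 0, nat_lit 2, nat_lit 3, nat_lit 4, nat_lit 2, nat_lit 4, nat_lit 2, nat_lit 4, nat_lit 5, nat_lit 4, nat_lit 1, nat_lit 2, nat_lit 5, nat_lit 4, nat_lit 0, nat_lit 3, nat_lit 4, nat_lit 1],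
  [nat_lit 3, nat_lit 4, nat_lit 0, nat_lit 3, nat_lit 4, nat_lit 5, nat_lit 4, nat_lit 1, nat_lit 3, nat_lit 4, nat_lit 0, nat_lit 4, nat_lit 5, nat_lit 4, nat_lit 0, nat_lit 2, nat_lit 5, nat_lit 4, nat_lit 2, nat_lit 4],
  [nat_lit 4, nat_lit 2, nat_lit 4, nat_lit 2, nat_lit 3, nat_lit 5, nat_lit 4, nat_lit 1, nat_lit 5, nat_lit 4, nat_lit 3, nat_lit 5, nat_lit 4, nat_lit 2, nat_lit 4, nat_lit 5],
  [nat_lit 3, nat_lit 1, nat_lit 4, nat_lit 2, nat_lit 3, nat_lit 4, nat_lit 0, nat_lit 2, nat_lit 4, nat_lit 3, nat_lit 5, nat_lit 4, nat_lit 1, nat_lit 3, nat_lit 4, nat_lit 5, nat_lit 3, nat_lit 1, nat_lit 4],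
  [nat_lit 2, nat_lit 4, nat_lit 3, nat_lit 2, nat_lit 4, nat_lit 1, nat_lit 1, nat_lit 5, nat_lit 4, nat_lit 0, nat_lit 3, nat_lit 5, nat_lit 4, nat_lit 2, nat_lit 4],
  [nat_lit 0, nat_lit 3, nat_lit 4, nat_lit 0, nat_lit 3, nat_lit 4, nat_lit 0, nat_lit 2, nat_lit 4, nat_lit 0, nat_lit 2, nat_lit 4, nat_lit 5, nat_lit 4, nat_lit 1, nat_lit 3, nat_lit 4, nat_lit 0, nat_lit 3, nat_lit 2, nat_lit 4],
  [nat_lit 0, nat_lit 4, nat_lit 3, nat_lit 4, nat_lit 2, nat_lit 4, nat_lit 3, nat_lit 1, nat_lit 4, nat_lit 5, nat_lit 4, nat_lit 3, nat_lit 4, nat_lit 5, nat_lit 4, nat_lit 2, nat_lit 4, nat_lit 2, nat_lit 4, nat_lit 0, nat_lit 0],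
  [nat_lit 3, nat_lit 4, nat_lit 2, nat_lit 4, nat_lit 2, nat_lit 3, nat_lit 4, nat_lit 5, nat_lit 4, nat_lit 1, nat_lit 5, nat_lit 4, nat_lit 0, nat_lit 3, nat_lit 5, nat_lit 4, nat_lit 2, nat_lit 4, nat_lit 3, nat_lit 4],
  [nat_lit 5, nat_lit 1, nat_lit 4, nat_lit 2, nat_lit 4, nat_lit 1, nat_lit 4, nat_lit 3, nat_lit 4, nat_lit 2, nat_lit 5, nat_lit 4, nat_lit 1, nat_lit 3, nat_lit 5, nat_lit 4, nat_lit 0, nat_lit 0, nat_lit 5, nat_lit 4, nat_lit 2],
  [nat_lit 1, nat_lit 4, nat_lit 2, nat_lit 3, nat_lit 4, nat_lit 1, nat_lit 2, nat_lit 5, nat_lit 4, nat_lit 3, nat_lit 5, nat_lit 4, nat_lit 1, nat_lit 3, nat_lit 5, nat_lit 4, nat_lit 1, nat_lit 5, nat_lit 4, nat_lit 2, nat_lit 3, nat_lit 0],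
  [nat_lit 0, nat_lit 0, nat_lit 3, nat_lit 4, nat_lit 1, nat_lit 3, nat_lit 4, nat_lit 1, nat_lit 3, nat_lit 5, nat_lit 4, nat_lit 0, nat_lit 3, nat_lit 4, nat_lit 3, nat_lit 5, nat_lit 4, nat_lit 0, nat_lit 2, nat_lit 4, nat_lit 5, nat_lit 0],
  [nat_lit 3, nat_lit 1, nat_lit 4, nat_lit 0, nat_lit 4, nat_lit 2, nat_lit 4, nat_lit 1, nat_lit 3, nat_lit 4, nat_lit 0, nat_lit 5, nat_lit 4, nat_lit 3, nat_lit 4, nat_lit 2, nat_lit 3, nat_lit 5, nat_lit 4, nat_lit 0, nat_lit 4, nat_lit 2],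
  [nat_lit 2, nat_lit 4, nat_lit 2, nat_lit 3, nat_lit 4, nat_lit 1, nat_lit 4, nat_lit 2, nat_lit 3, nat_lit 5, nat_lit 4, nat_lit 3, nat_lit 5, nat_lit 4, nat_lit 0, nat_lit 3, nat_lit 5, nat_lit 4, nat_lit 1],
  [nat_lit 3, nat_lit 1, nat_lit 4, nat_lit 3, nat_lit 1, nat_lit 4, nat_lit 5, nat_lit 4, nat_lit 0, nat_lit 3, nat_lit 4, nat_lit 3, nat_lit 5, nat_lit 4, nat_lit 0, nat_lit 2, nat_lit 4, nat_lit 1],
  [nat_lit 2, nat_lit 4, nat_lit 3, nat_lit 4, nat_lit 1, nat_lit 4, nat_lit 2, nat_lit 5, nat_lit 4, nat_lit 3, nat_lit 4, nat_lit 5, nat_lit 4, nat_lit 3, nat_lit 4, nat_lit 2, nat_lit 4, nat_lit 2],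
  [nat_lit 0, nat_lit 3, nat_lit 4, nat_lit 2, nat_lit 3, nat_lit 2, nat_lit 4, nat_lit 5, nat_lit 2, nat_lit 4, nat_lit 5, nat_lit 1, nat_lit 4, nat_lit 2, nat_lit 4, nat_lit 2, nat_lit 1, nat_lit 4, nat_lit 0, nat_lit 2],
  [nat_lit 2, nat_lit 4, nat_lit 0, nat_lit 2, nat_lit 4, nat_lit 0, nat_lit 2, nat_lit 5, nat_lit 4, nat_lit 3, nat_lit 4, nat_lit 5, nat_lit 4, nat_lit 0, nat_lit 3, nat_lit 5, nat_lit 4, nat_lit 2, nat_lit 4, nat_lit 1, nat_lit 5],
  [nat_lit 0, nat_lit 2, nat_lit 3, nat_lit 4, nat_lit 1, nat_lit 4, nat_lit 2, nat_lit 4, nat_lit 5, nat_lit 4, nat_lit 2, nat_lit 4, nat_lit 0, nat_lit 0, nat_lit 2, nat_lit 5, nat_lit 4, nat_lit 5, nat_lit 3, nat_lit 4],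
  [nat_lit 0, nat_lit 4, nat_lit 0, nat_lit 0, nat_lit 3, nat_lit 4, nat_lit 1, nat_lit 2, nat_lit 4, nat_lit 1, nat_lit 5, nat_lit 4, nat_lit 3, nat_lit 5, nat_lit 4, nat_lit 0, nat_lit 3, nat_lit 4, nat_lit 1],
  [nat_lit 0, nat_lit 4, nat_lit 0, nat_lit 2, nat_lit 0, nat_lit 4, nat_lit 2, nat_lit 4, nat_lit 3, nat_lit 4, nat_lit 5, nat_lit 4, nat_lit 0, nat_lit 3, nat_lit 4, nat_lit 2, nat_lit 1],
  [nat_lit 2, nat_lit 4, nat_lit 2, nat_lit 4, nat_lit 2, nat_lit 3, nat_lit 4, nat_lit 2, nat_lit 5, nat_lit 3, nat_lit 4, nat_lit 2, nat_lit 4, nat_lit 3, nat_lit 0, nat_lit 4, nat_lit 5, nat_lit 3],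
  [nat_lit 2, nat_lit 4, nat_lit 2, nat_lit 3, nat_lit 4, nat_lit 1, nat_lit 4, nat_lit 2, nat_lit 3, nat_lit 5, nat_lit 4, nat_lit 3, nat_lit 5, nat_lit 4, nat_lit 3, nat_lit 4, nat_lit 1, nat_lit 5]]
noncomputable def Ape : List ℕ := [nat_lit 786, nat_lit 103, nat_lit 196, nat_lit 473, nat_lit 415, nat_lit 957, nat_lit 390, nat_lit 77, nat_lit 475, nat_lit 173, nat_lit 220, nat_lit 1236, nat_lit 51, nat_lit 572, nat_lit 1023, nat_lit 899, nat_lit 26, nat_lit 293, nat_lit 48, nat_lit 210, nat_lit 278, nat_lit 511, nat_lit 84, nat_lit 170, nat_lit 157, nat_lit 478, nat_lit 114, nat_lit 855, nat_lit 87, nat_lit 637, nat_lit 761, nat_lit 182, nat_lit 1514, nat_lit 508, nat_lit 147, nat_lit 370]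

theorem oe0_0 : Nat.beq (loop2 (le0.scan H15.Tits.P) 0 (nat_lit 1755)) (nat_lit 1755) = true := by decide +kernel
theorem oe1_0 : Nat.beq (loop2 (le1.scan H15.Tits.P) 0 (nat_lit 1755)) (nat_lit 640) = true := by decide +kernel
theorem oe2c : 0 < le2.K ∧ allL (ltAll 6) le2.Ws = true ∧ [nat_lit 1734, nat_lit 1573, nat_lit 1441, nat_lit 1421, nat_lit 1187, nat_lit 1170, nat_lit 1060, nat_lit 1033, nat_lit 1023, nat_lit 798, nat_lit 680, nat_lit 641, nat_lit 568, nat_lit 349, nat_lit 303, nat_lit 147].length = le2.n ∧ le2.lst H15.Tits.P [nat_lit 1734, nat_lit 1573, nat_lit 1441, nat_lit 1421, nat_lit 1187, nat_lit 1170, nat_lit 1060, nat_lit 1033, nat_lit 1023, nat_lit 798, nat_lit 680, nat_lit 641, nat_lit 568, nat_lit 349, nat_lit 303, nat_lit 147] 1755 = 0 := by decide +kernel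
theorem lce : lowChk H15.Tits.P 1755 6 LLe [] = 0 ∧ prodN LLe = 17971200 ∧ 0 < 17971200 := by decide +kernel
theorem cce : cenChk H15.Tits.P 1755 6 H15.Tits.B We We (nat_lit 786) LLe Acce Ape = true := by decide +kernel
theorem cee_0 : allZ (cenEnt H15.Tits.P We LLe Ape (nat_lit 2)) (nat_lit 0) (nat_lit 1755) = true := by decide +kernel

theorem oe0 : le0.Orb H15.Tits.g (ptF 1755) 1755 := Lv.orb_scan H15.Tits.act (by decide +kernel) (sum_first oe0_0)
theorem oe1 : le1.Orb H15.Tits.g (ptF 1755) 1755 := Lv.orb_scan H15.Tits.act (by decide +kernel) (sum_first oe1_0)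
theorem oe2 : le2.Orb H15.Tits.g (ptF 1755) 1755 := Lv.orb_lst H15.Tits.act oe2c
theorem exe : ExC H15.Tits.g (ptF 1755) 1755 6 LLe (gen H15.Tits.g 6) := exC_of H15.Tits.act (ptF_inj 1755) H15.Tits.card (all_cons oe0 (all_cons oe1 (all_cons oe2 all_nil))) lce
theorem cee : ∀ i < 1755, (cenEnt H15.Tits.P We LLe Ape (nat_lit 2)) i = 0 := allZ_sound0 cee_0
theorem cene {a} (hg : a ∈ gen H15.Tits.g 6) (h : a * evA H15.Tits.g We = evA H15.Tits.g We * a) :
    ∃ j : ℤ, ∃ E ∈ Acce, a = evA H15.Tits.g We ^ j * evA H15.Tits.g E :=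
  cen_sound H15.Tits.act H15.Tits.Blt H15.Tits.isBase exe cce cee hg h

end H20.TF
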